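import Cfsg.Agent.ClassicalGeometry.TwoFamilies
import Cfsg.Agent.LieClassical.OrthCore

/-!
# The two families of maximal totally singular subspaces are preserved by `E Q` (helper556)

* `exists_max_mem` : a singular vector is in a totally singular subspace of dimension `m`, if `dim V = 2m` and there is one such
  subspace;
* `even_of_mem_E` : `dim (U ∩ gU) ≡ m (mod 2)` for `g ∈ E Q`.
-/

set_option autoImplicit false

namespace Cfsg.Agent.H556.FD

open Module QuadraticMap
open Cfsg.Agent.LieClassical.OrthCore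

variable {F V : Type*} [Field F] [AddCommGroup V] [Module F V] {Q : QuadraticForm F V}

theorem polar_eq_zero_of_ts {X : Submodule F V} (hX : ∀ x ∈ X, Q x = 0) {x y : V} (hx : x ∈ X) (hy : y ∈ X) :
    polar Q x y = 0 := by
  rw [polar, hX _ (X.add_mem hx hy), hX _ hx, hX _ hy, sub_zero, sub_zero]

theorem nd (hQ : Nondeg Q) : LinearMap.BilinForm.Nondegenerate (polarBilin Q) :=
  ⟨fun x hx => hQ x hx, fun x hx => hQ x fun y => by rw [polar_comm]; exact hx y⟩

theorem rf (Q : QuadraticForm F V) : LinearMap.BilinForm.IsRefl (polarBilin Q) := by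
  intro x y h
  have h1 : polar Q x y = 0 := h
  show polar Q y x = 0
  rw [polar_comm]
  exact h1

theorem map_inf' (g : V ≃ₗ[F] V) (A B : Submodule F V) :
    (A ⊓ B).map (g : V →ₗ[F] V) = A.map (g : V →ₗ[F] V) ⊓ B.map (g : V →ₗ[F] V) :=
  Submodule.map_inf _ g.injective

theorem map_mul' (g h : V ≃ₗ[F] V) (A : Submodule F V) :
    A.map ((g * h : V ≃ₗ[F] V) : V →ₗ[F] V) = (A.map (h : V →ₗ[F] V)).map (g : V →ₗ[F] V) := by
  rw [← Submodule.map_comp]
  rfl

theorem ts_map {g : V ≃ₗ[F] V} (hg : g ∈ O Q) {U : Submodule F V} (hU : ∀ u ∈ U, Q u = 0) :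
    ∀ u ∈ U.map (g : V →ₗ[F] V), Q u = 0 := by
  rintro _ ⟨u, hu, rfl⟩
  show Q (g u) = 0
  rw [mem_O.1 hg, hU u hu]

variable [FiniteDimensional F V] {m : ℕ}

theorem finrank_le_of_ts (hQ : Nondeg Q) (hV : finrank F V = 2 * m) {X : Submodule F V} (hX : ∀ x ∈ X, Q x = 0) :
    finrank F X ≤ m := by
  have h1 : X ≤ LinearMap.BilinForm.orthogonal (polarBilin Q) X := by
    intro x hx y hy
    exact polar_eq_zero_of_ts hX hy hx
  have h2 := Submodule.finrank_mono h1
  rw [LinearMap.BilinForm.finrank_orthogonal (nd hQ), hV] at h2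
  omega

theorem exists_max_mem (hQ : Nondeg Q) (hV : finrank F V = 2 * m) {X₀ : Submodule F V} (hd : finrank F X₀ = m)
    (hX₀ : ∀ x ∈ X₀, Q x = 0) {u : V} (hu : Q u = 0) :
    ∃ X : Submodule F V, finrank F X = m ∧ (∀ x ∈ X, Q x = 0) ∧ u ∈ X := by
  by_cases hmem : u ∈ X₀
  · exact ⟨X₀, hd, hX₀, hmem⟩
  set K := LinearMap.ker (polarBilin Q u) with hK
  have hKd : 2 * m ≤ finrank F K + 1 := by
    have h1 := LinearMap.finrank_range_add_finrank_ker (polarBilin Q u)
    have h2 : finrank F (LinearMap.range (polarBilin Q u)) ≤ 1 := by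
      have := Submodule.finrank_le (LinearMap.range (polarBilin Q u))
      rwa [finrank_self] at this
    rw [hV] at h1
    have h3 : finrank F K = finrank F (LinearMap.ker (polarBilin Q u)) := rfl
    omega
  have h1 := Submodule.finrank_sup_add_finrank_inf_eq X₀ K
  have h2 := Submodule.finrank_le (X₀ ⊔ K)
  rw [hV] at h2
  have hmK : ∀ x ∈ X₀ ⊓ K, polar Q u x = 0 := fun x hx => hx.2
  have hts : ∀ x ∈ (X₀ ⊓ K) ⊔ Submodule.span F {u}, Q x = 0 := by
    intro x hx
    obtain ⟨y, hy, z, hz, rfl⟩ := Submodule.mem_sup.1 hx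
    obtain ⟨c, rfl⟩ := Submodule.mem_span_singleton.1 hz
    have h3 : Q (y + c • u) = Q y + Q (c • u) + polar Q y (c • u) := by
      rw [polar]; ring
    rw [h3, QuadraticMap.map_smul, hu, hX₀ _ hy.1, polar_smul_right, polar_comm, hmK _ hy]
    simp
  have h3 := Submodule.finrank_sup_add_finrank_inf_eq (X₀ ⊓ K) (Submodule.span F {u})
  have hu0 : u ≠ 0 := by
    rintro rfl
    exact hmem X₀.zero_mem
  have h4 : (X₀ ⊓ K) ⊓ Submodule.span F {u} = ⊥ := by
    rw [Submodule.eq_bot_iff]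
    rintro x ⟨hx1, hx2⟩
    obtain ⟨c, rfl⟩ := Submodule.mem_span_singleton.1 hx2
    by_contra hcon
    have hc : c ≠ 0 := by
      rintro rfl
      exact hcon (zero_smul _ _)
    exact hmem ((Submodule.smul_mem_iff _ hc).1 hx1.1)
  rw [h4, finrank_bot, finrank_span_singleton hu0] at h3
  have h5 := finrank_le_of_ts hQ hV hts
  exact ⟨_, by omega, hts, Submodule.mem_sup_right (Submodule.mem_span_singleton_self u)⟩

theorem even3 (hQ : Nondeg Q) (hV : finrank F V = 2 * m) {U W X : Submodule F V} (hU : finrank F U = m)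
    (hW : finrank F W = m) (hX : finrank F X = m) (hU0 : ∀ u ∈ U, Q u = 0) (hW0 : ∀ u ∈ W, Q u = 0)
    (hX0 : ∀ u ∈ X, Q u = 0) :
    Even (finrank F ↥(U ⊓ W) + finrank F ↥(W ⊓ X) + finrank F ↥(U ⊓ X) + m) :=
  Cfsg.Agent.ClassicalGeometry.TwoFamilies.even_intersections (polarBilin Q) Q
    (fun u w => by show _ = Q u + Q w + polar Q u w; rw [polar]; ring) (nd hQ) (rf Q) m hV U W X hU hW hX hU0 hW0 hX0

/-- **`E Q` preserves the two families.** -/
theorem even_of_mem_E (hQ : Nondeg Q) (hV : finrank F V = 2 * m) {g : V ≃ₗ[F] V} (hg : g ∈ E Q) :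
    ∀ U : Submodule F V, finrank F U = m → (∀ u ∈ U, Q u = 0) →
      Even (finrank F ↥(U ⊓ U.map (g : V →ₗ[F] V)) + m) := by
  induction hg using Subgroup.closure_induction with
  | mem g hg =>
    obtain ⟨u, w, hu, hw, rfl⟩ := hg
    intro U hU hU0
    obtain ⟨X, hX, hX0, huX⟩ := exists_max_mem hQ hV hU hU0 hu
    set g := siegel Q u w hu hw with hg
    have hgO : g ∈ O Q := siegel_mem_O hu hw
    have hgX : X.map (g : V →ₗ[F] V) = X := by
      refine Submodule.eq_of_le_of_finrank_eq ?_ (LinearEquiv.finrank_map_eq g X)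
      rintro _ ⟨x, hx, rfl⟩
      show g x ∈ X
      rw [hg, siegel_apply, polar_eq_zero_of_ts hX0 huX hx, zero_smul, add_zero, mul_zero, zero_smul, sub_zero]
      exact X.sub_mem hx (X.smul_mem _ huX)
    have h1 := even3 hQ hV hU (by rw [LinearEquiv.finrank_map_eq, hU]) hX hU0 (ts_map hgO hU0) hX0
    have h2 : finrank F ↥(U.map (g : V →ₗ[F] V) ⊓ X) = finrank F ↥(U ⊓ X) := by
      conv_lhs => rw [← hgX]
      rw [← map_inf', LinearEquiv.finrank_map_eq]
    rw [h2] at h1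
    rw [Nat.even_iff] at h1 ⊢
    omega
  | one =>
    intro U hU hU0
    have h1 : U.map ((1 : V ≃ₗ[F] V) : V →ₗ[F] V) = U := Submodule.map_id _
    rw [h1, inf_idem, hU]
    exact ⟨m, rfl⟩
  | mul g h hg hh ihg ihh =>
    intro U hU hU0
    have hgO := E_le_O hg
    have hhO := E_le_O hh
    have hd1 : finrank F (U.map (h : V →ₗ[F] V)) = m := by rw [LinearEquiv.finrank_map_eq, hU]
    have hd2 : finrank F ((U.map (h : V →ₗ[F] V)).map (g : V →ₗ[F] V)) = m := by rw [LinearEquiv.finrank_map_eq, hd1]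
    have h1 := even3 hQ hV hU hd1 hd2 hU0 (ts_map hhO hU0) (ts_map hgO (ts_map hhO hU0))
    have h2 := ihh U hU hU0
    have h3 := ihg _ hd1 (ts_map hhO hU0)
    rw [map_mul']
    rw [Nat.even_iff] at *
    omega
  | inv g hg ih =>
    intro U hU hU0
    have h1 := ih U hU hU0
    have h2 : finrank F ↥(U ⊓ U.map ((g⁻¹ : V ≃ₗ[F] V) : V →ₗ[F] V)) = finrank F ↥(U ⊓ U.map (g : V →ₗ[F] V)) := by
      rw [← LinearEquiv.finrank_map_eq g (U ⊓ U.map ((g⁻¹ : V ≃ₗ[F] V) : V →ₗ[F] V)), map_inf', ← map_mul',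
        mul_inv_cancel]
      have h3 : U.map ((1 : V ≃ₗ[F] V) : V →ₗ[F] V) = U := Submodule.map_id _
      rw [h3, inf_comm]
    rw [h2]
    exact h1

end Cfsg.Agent.H556.FD
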