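import Cfsg.Agent.H556.FD.Std
import Cfsg.Agent.H556.FD.Par
import Cfsg.Agent.TitsThree.KSideO
import Cfsg.Agent.TitsThree.WBridge

/-!
# S4884, row `POmega⁺`: the standard flags, dimensions and the two families (helper556)

* `linearIndependent_b`, `finrank_stdF`, `stdF_mono`, `stdF_ts`;
* `finrank_V` : `dim V = 2 (n + 2)` if the anisotropic part is zero;
* `stdF_ne` : no element of `E Q` maps `stdF true (n + 2)` to `stdF false (n + 2)`.
-/

set_option autoImplicit false

namespace Cfsg.Agent.H556.FD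

open Module QuadraticMap
open Cfsg.Agent.LieClassical.OrthCore
open Cfsg.Agent.TitsThree Cfsg.Agent.TitsThree.Siegel Cfsg.Agent.TitsThree.SiegelGen
  Cfsg.Agent.TitsThree.WittFrame Cfsg.Agent.TitsThree.WBridge Cfsg.Agent.TitsThree.KSideO

variable {n : ℕ}

section frame

variable {F : Type*} [Field F] {V : Type*} [AddCommGroup V] [Module F V] {H : HForm F V}
  {Fr : Frame H (Fin (n + 2))}

theorem linearIndependent_b : LinearIndependent F Fr.b := by
  rw [linearIndependent_iff']
  intro s c h w hw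
  have h1 : H.h (∑ x ∈ s, c x • Fr.b x) (Fr.b (neg w)) = c w * H.h (Fr.b w) (Fr.b (neg w)) := by
    have key : ∀ t : Finset (Fin (n + 2) × Bool), w ∈ t →
        H.h (∑ x ∈ t, c x • Fr.b x) (Fr.b (neg w)) = c w * H.h (Fr.b w) (Fr.b (neg w)) := by
      intro t hw
      have key2 : ∀ t : Finset (Fin (n + 2) × Bool), w ∉ t →
          H.h (∑ x ∈ t, c x • Fr.b x) (Fr.b (neg w)) = 0 := by
        intro t
        induction t using Finset.induction_on with
        | empty => intro _; rw [Finset.sum_empty, H.zero_left]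
        | insert x t hx ih =>
          intro hw
          rw [Finset.mem_insert, not_or] at hw
          rw [Finset.sum_insert hx, H.add_left, ih hw.2, add_zero, H.smul_left, Fr.hb_ne, mul_zero]
          intro h2
          apply hw.1
          rw [← WittFrame.neg_neg w, h2, WittFrame.neg_neg]
      rw [← Finset.add_sum_erase t _ hw, H.add_left, key2 _ (Finset.notMem_erase w t), add_zero, H.smul_left]
    exact key s hw
  rw [h, H.zero_left, Fr.hb_self_neg] at h1
  exact (mul_eq_zero.1 h1.symm).resolve_right (Fr.η_ne _)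

theorem stdF_eq (j : Bool) {k : ℕ} (hk : k ≤ n + 2) :
    stdF Fr j k = Submodule.span F (Set.range fun i : Fin k => Fr.b (Fin.castLE hk i, sj j (Fin.castLE hk i))) := by
  unfold stdF
  congr 1
  ext v
  constructor
  · rintro ⟨⟨l, s⟩, ⟨h1, h2⟩, rfl⟩
    refine ⟨⟨l, h1⟩, ?_⟩
    have h3 : Fin.castLE hk ⟨(l : ℕ), h1⟩ = l := Fin.ext rfl
    show Fr.b (Fin.castLE hk ⟨(l : ℕ), h1⟩, _) = _
    rw [h3]
    exact congrArg Fr.b (Prod.ext rfl h2.symm)
  · rintro ⟨i, rfl⟩
    exact ⟨_, ⟨i.2, rfl⟩, rfl⟩

theorem finrank_stdF (j : Bool) {k : ℕ} (hk : k ≤ n + 2) : finrank F (stdF Fr j k) = k := by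
  rw [stdF_eq j hk, finrank_span_eq_card]
  · exact Fintype.card_fin k
  · refine linearIndependent_b.comp (fun i : Fin k => (Fin.castLE hk i, sj j (Fin.castLE hk i))) ?_
    intro a b hab
    have h1 := congrArg Prod.fst hab
    exact Fin.castLE_injective hk h1

theorem stdF_mono (j : Bool) {k l : ℕ} (h : k ≤ l) : stdF Fr j k ≤ stdF Fr j l :=
  stdF_le_iff.2 fun _ hw => b_mem ⟨hw.1.trans_le h, hw.2⟩

/-- the two families have the same subspaces of dimension at most `n + 1` -/
theorem stdF_congr (j j' : Bool) {k : ℕ} (hk : k ≤ n + 1) : stdF Fr j k = stdF Fr j' k := by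
  have key : ∀ j j' : Bool, stdF Fr j k ≤ stdF Fr j' k := by
    intro j j'
    refine stdF_le_iff.2 fun w hw => b_mem ⟨hw.1, ?_⟩
    have h1 := hw.1
    have h2 := hw.2
    unfold sj at h2 ⊢
    rw [if_neg (by omega)] at h2 ⊢
    exact h2
  exact le_antisymm (key j j') (key j' j)

theorem stdF_inf [FiniteDimensional F V] : finrank F ↥(stdF Fr true (n + 2) ⊓ stdF Fr false (n + 2)) = n + 1 := by
  have h1 : stdF Fr true (n + 1) ≤ stdF Fr true (n + 2) ⊓ stdF Fr false (n + 2) :=
    le_inf (stdF_mono _ (Nat.le_succ _)) ((stdF_congr true false le_rfl).le.trans (stdF_mono _ (Nat.le_succ _)))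
  have h2 := Submodule.finrank_mono h1
  rw [finrank_stdF true (Nat.le_succ _)] at h2
  have h3 : stdF Fr true (n + 2) ⊓ stdF Fr false (n + 2) < stdF Fr true (n + 2) := by
    refine lt_of_le_of_ne inf_le_left fun h => ?_
    have h4 : Fr.b (Fin.last (n + 1), true) ∈ stdF Fr true (n + 2) := b_mem ⟨by simp, by simp [sj]⟩
    rw [← h] at h4
    have h5 := (b_mem_iff.1 h4.2).2
    simp [sj] at h5
  have h4 := Submodule.finrank_lt_finrank_of_lt h3
  rw [finrank_stdF true le_rfl] at h4
  omega

end frame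

section orth

variable {F : Type*} [Field F] {V : Type*} [AddCommGroup V] [Module F V] {Q : QuadraticForm F V}
  (W : WFrame (PO Q) (n + 2))

theorem Q_b (x : Fin (n + 2) × Bool) : Q ((toFrame W).b x) = 0 := by
  rcases x with ⟨i, x⟩
  cases x
  · exact (sing_iff Q).1 (W.f_sing i)
  · exact (sing_iff Q).1 (W.e_sing i)

/-- the standard subspaces are totally singular -/
theorem stdF_ts (j : Bool) (k : ℕ) : ∀ u ∈ stdF (toFrame W) j k, Q u = 0 := by
  have hp : ∀ u ∈ stdF (toFrame W) j k, ∀ w, Idx j k w → polar Q u ((toFrame W).b w) = 0 := by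
    intro u hu w hw
    refine h_eq_zero (H := HO Q) (Fr := toFrame W) (w := w) ?_ hu
    rintro ⟨-, h2⟩
    have h3 := hw.2
    have h4 : (neg w).2 = !w.2 := rfl
    rw [h4] at h2
    have h5 : (neg w).1 = w.1 := rfl
    rw [h5, ← h3] at h2
    cases h6 : w.2 <;> rw [h6] at h2 <;> exact absurd h2 (by decide)
  intro u hu
  induction hu using Submodule.span_induction with
  | mem x hx =>
    obtain ⟨w, -, rfl⟩ := hx
    exact Q_b W w
  | zero => exact QuadraticMap.map_zero Q
  | add x y hx hy ihx ihy =>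
    have h1 : Q (x + y) = Q x + Q y + polar Q x y := by rw [polar]; ring
    have h2 : polar Q x y = 0 := by
      have hx' : x ∈ stdF (toFrame W) j k := hx
      have hy' : y ∈ stdF (toFrame W) j k := hy
      clear ihx ihy h1
      induction hy using Submodule.span_induction with
      | mem z hz =>
        obtain ⟨w, hw, rfl⟩ := hz
        exact hp x hx' w hw
      | zero => exact polar_zero_right Q x
      | add a b ha hb iha ihb =>
        rw [polar_add_right, iha ha, ihb hb, add_zero]
      | smul c a ha iha => rw [polar_smul_right, iha ha, smul_zero]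
    rw [h1, ihx, ihy, h2, add_zero, add_zero]
  | smul c x _ ihx => rw [QuadraticMap.map_smul, ihx, smul_zero]

variable [FiniteDimensional F V]

/-- the dimension of a hyperbolic space -/
theorem finrank_V (h0 : ∀ p : (toFrame W).Adm, p = 1) : finrank F V = 2 * (n + 2) := by
  have hV0 : ∀ w ∈ W.V0, w = 0 := by
    intro w hw
    have h1 := h0 ⟨w, -Q w, hw, rfl⟩
    exact congrArg Frame.Adm.w h1
  have hspan : Submodule.span F (Set.range (toFrame W).b) = ⊤ := by
    rw [eq_top_iff]
    intro v _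
    obtain ⟨a, b, w, hw, e⟩ := W.span v
    rw [e, hV0 w hw, add_zero]
    refine Submodule.add_mem _ (Submodule.sum_mem _ fun i _ => Submodule.smul_mem _ _ ?_)
      (Submodule.sum_mem _ fun i _ => Submodule.smul_mem _ _ ?_)
    · exact Submodule.subset_span ⟨(i, true), rfl⟩
    · exact Submodule.subset_span ⟨(i, false), rfl⟩
  have h1 := finrank_span_eq_card (linearIndependent_b (Fr := toFrame W))
  rw [hspan, finrank_top, Fintype.card_prod, Fintype.card_fin, Fintype.card_bool] at h1
  omega

/-- **The two families are not fused by `E Q`.** -/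
theorem stdF_ne (hQ : Nondeg Q) (h0 : ∀ p : (toFrame W).Adm, p = 1) {g : V ≃ₗ[F] V} (hg : g ∈ E Q) :
    (stdF (toFrame W) true (n + 2)).map (g : V →ₗ[F] V) ≠ stdF (toFrame W) false (n + 2) := by
  intro h
  have h1 := even_of_mem_E (m := n + 2) hQ (finrank_V W h0) hg (stdF (toFrame W) true (n + 2)) (finrank_stdF _ le_rfl)
    (stdF_ts W _ _)
  rw [h, stdF_inf] at h1
  rw [Nat.even_iff] at h1
  omega

/-- the two families are disjoint orbits -/
theorem eq_of_map_eq (hQ : Nondeg Q) (h0 : ∀ p : (toFrame W).Adm, p = 1) {g g' : V ≃ₗ[F] V} (hg : g ∈ E Q)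
    (hg' : g' ∈ E Q) {j j' : Bool}
    (h : (stdF (toFrame W) j (n + 2)).map (g : V →ₗ[F] V) = (stdF (toFrame W) j' (n + 2)).map (g' : V →ₗ[F] V)) :
    j = j' := by
  have key : ∀ {g g' : V ≃ₗ[F] V}, g ∈ E Q → g' ∈ E Q →
      (stdF (toFrame W) true (n + 2)).map (g : V →ₗ[F] V) ≠ (stdF (toFrame W) false (n + 2)).map (g' : V →ₗ[F] V) := by
    intro g g' hg hg' h
    refine stdF_ne W hQ h0 (mul_mem (inv_mem hg') hg) ?_
    rw [map_mul', h, ← map_mul', inv_mul_cancel]
    exact Submodule.map_id _
  cases j <;> cases j'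
  · rfl
  · exact absurd h.symm (key hg' hg)
  · exact absurd h (key hg hg')
  · rfl

end orth

end Cfsg.Agent.H556.FD
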