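import Cfsg.Agent.H556.FD.Std
import Cfsg.Agent.Nodes.WittInst
import Cfsg.Agent.H439.CC.Defs

/-!
# S4884, row `POmega⁺`: the parabolic subgroups of types `JD K j` are the stabilizers of the standard flags (helper556)
-/

set_option autoImplicit false
set_option linter.unusedSimpArgs false

namespace Cfsg.Agent.H556.FD

open Cfsg Cfsg.Agent.ChevalleyStructure.CoxeterGeom Cfsg.Agent.Tits.Roots
open Cfsg.Agent.Nodes.TypeC (wt wt_apply ng ng_ng ng_fst ng_snd wt_ng)
open Cfsg.Agent.Nodes.TypeD Cfsg.Agent.Nodes.WittRoot Cfsg.Agent.Nodes.BNOf Cfsg.Agent.Nodes.LeviDec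
open Cfsg.Agent.Nodes.RGDLib Cfsg.Agent.Nodes.WittInst
open Cfsg.Agent.Nodes.WittRGD (Tor)
open Cfsg.Agent.TitsThree Cfsg.Agent.TitsThree.Siegel Cfsg.Agent.TitsThree.SiegelGen
  Cfsg.Agent.TitsThree.WittFrame Cfsg.Agent.TitsThree.WBridge Cfsg.Agent.TitsThree.KSideO
open Cfsg.Agent.LieClassical Cfsg.Agent.LieClassical.OrthCore Cfsg.Agent.LieClassical.OrthTrans
open Cfsg.Agent.LieClassical.OrthSimple
open Cfsg.Agent.H439.CC

variable {n : ℕ}

/-- positive roots -/
theorem pos_root {x : Fin (n + 2) → ℤ} (hx : 0 ≤ x) {a b : Fin (n + 2) × Bool} (hab : (a.1 : ℕ) < b.1)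
    (e : ee x = wt a + wt b) : a.2 = true := by
  have hb2 := b.1.2
  -- the partial sum up to `a.1`
  have h1 : 0 ≤ ∑ k ∈ Finset.Iic a.1, ee x k := by
    have h2 : ∀ k, ee x k = ∑ j, x j * bt j k := by
      intro k
      simp [ee, Finset.sum_apply]
    simp only [h2]
    rw [Finset.sum_comm]
    simp only [← Finset.mul_sum, sum_bt]
    refine Finset.sum_nonneg fun i _ => mul_nonneg (hx i) ?_
    split_ifs <;> norm_num
  rw [e] at h1
  simp only [Pi.add_apply, Finset.sum_add_distrib, wt, Finset.sum_pi_single', Finset.mem_Iic] at h1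
  have h3 : ¬ b.1 ≤ a.1 := by rw [Fin.le_def]; omega
  rw [if_neg h3] at h1
  by_contra hcon
  rw [Bool.not_eq_true] at hcon
  rw [hcon] at h1
  norm_num at h1

variable {ι : Type} [Fintype ι] [DecidableEq ι] {F : Type*} [Field F] {Q : QuadraticForm F (ι → F)}
  (W : WFrame (PO Q) (n + 2))

/-- the stabilizer of the standard flag -/
def StE (K : Finset ℕ) (j : Bool) : Subgroup (E Q) where
  carrier := {g | ∀ k ∈ K, (stdF (toFrame W) j k).map ((g : (ι → F) ≃ₗ[F] (ι → F)) : (ι → F) →ₗ[F] (ι → F)) =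
    stdF (toFrame W) j k}
  one_mem' := fun k _ => Submodule.map_id _
  mul_mem' := by
    intro g h hg hh k hk
    have h1 : (stdF (toFrame W) j k).map (((g * h : E Q) : (ι → F) ≃ₗ[F] (ι → F)) : (ι → F) →ₗ[F] (ι → F)) =
        ((stdF (toFrame W) j k).map ((h : (ι → F) ≃ₗ[F] (ι → F)) : (ι → F) →ₗ[F] (ι → F))).map
          ((g : (ι → F) ≃ₗ[F] (ι → F)) : (ι → F) →ₗ[F] (ι → F)) := by
      rw [← Submodule.map_comp]
      rfl
    rw [h1, hh k hk, hg k hk]
  inv_mem' := by
    intro g hg k hk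
    have h1 := hg k hk
    conv_lhs => rw [← h1, ← Submodule.map_comp]
    have h2 : (((g⁻¹ : E Q) : (ι → F) ≃ₗ[F] (ι → F)) : (ι → F) →ₗ[F] (ι → F)) ∘ₗ
        ((g : (ι → F) ≃ₗ[F] (ι → F)) : (ι → F) →ₗ[F] (ι → F)) = LinearMap.id := by
      refine LinearMap.ext fun v => ?_
      show (g : (ι → F) ≃ₗ[F] (ι → F))⁻¹ ((g : (ι → F) ≃ₗ[F] (ι → F)) v) = v
      exact (g : (ι → F) ≃ₗ[F] (ι → F)).symm_apply_apply v
    rw [h2, Submodule.map_id]

omit [Fintype ι] [DecidableEq ι] in
theorem mem_StE {K : Finset ℕ} {j : Bool} {g : E Q} : g ∈ StE W K j ↔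
    ∀ k ∈ K, (stdF (toFrame W) j k).map ((g : (ι → F) ≃ₗ[F] (ι → F)) : (ι → F) →ₗ[F] (ι → F)) =
      stdF (toFrame W) j k := Iff.rfl

/-- membership passes to the quotient -/
theorem map_mem_iff [Finite F] (hG : Good Q) {K : Finset ℕ} {j : Bool} {g : E Q} :
    toPOmega hG g ∈ (StE W K j).map (toPOmega hG) ↔ g ∈ StE W K j := by
  constructor
  · rintro ⟨g', hg', e⟩
    have h1 : toPOmega hG (g'⁻¹ * g) = 1 := by rw [map_mul, map_inv, e, inv_mul_cancel]
    obtain ⟨c, hc⟩ := scalar_of_center hG (center_of_toPOmega hG h1)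
    have h2 : g'⁻¹ * g ∈ StE W K j := by
      intro k _
      refine map_eq_of_le (Submodule.map_le_iff_le_comap.2 fun v hv => ?_)
      show (g'⁻¹ * g).1 v ∈ stdF (toFrame W) j _
      rw [hc]
      exact Submodule.smul_mem _ _ hv
    have h3 : g = g' * (g'⁻¹ * g) := by group
    rw [h3]
    exact mul_mem hg' h2
  · exact fun h => ⟨g, h, rfl⟩

/-- **The parabolic subgroups of the types `JD K j`.** -/
theorem mem_PJ_iff [Finite F] (hG : Good Q) (hA : Amb (toFrame W) (E Q)) (h0 : ∀ p : (toFrame W).Adm, p = 1) {p : ℕ}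
    [Fact p.Prime] [CharP F p] {G : Type*} [Group G] (cs : CoxeterSystem (M n) G) {K : Finset ℕ}
    (hK : K ⊆ Finset.Icc 1 (n + 2)) (hN : n + 2 ∈ K) (j : Bool) (g : E Q) :
    toPOmega hG g ∈ PJ cs (isCartan n) (((Tor (toFrame W) (E Q)).subgroupOf (E Q)).map (toPOmega hG))
      (XD W (toPOmega hG)) (JD K j) ↔
      ∀ k ∈ K, (stdF (toFrame W) j k).map ((g : (ι → F) ≃ₗ[F] (ι → F)) : (ι → F) →ₗ[F] (ι → F)) =
        stdF (toFrame W) j k := by
  have hGf : Finite G := finite_W cs
  have R := rgdD_model W hG hA h0 (p := p) cs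
  rw [← mem_StE, ← map_mem_iff W hG]
  set P := (StE W K j).map (toPOmega hG) with hP
  -- `B ≤ P`
  have hB : RGD.B cs (isCartan n) (((Tor (toFrame W) (E Q)).subgroupOf (E Q)).map (toPOmega hG))
      (XD W (toPOmega hG)) ≤ P := by
    refine sup_le ?_ (RGD.Sup_le ?_)
    · refine Subgroup.map_mono fun t ht => ?_
      intro k _
      exact (mono_stab_iff (Subgroup.mem_subgroupOf.1 ht).2).2 fun w hw => hw
    · rintro x ⟨hx, hx0⟩
      refine Subgroup.map_mono fun t ht => ?_
      have ht' : (t : (ι → F) ≃ₗ[F] (ι → F)) ∈ Cfsg.Agent.Nodes.WittRGDD.rg (toFrame W) x :=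
        Subgroup.mem_subgroupOf.1 ht
      obtain ⟨a, b, hab, e⟩ := exists_of_isRoot cs hx
      have key : ∀ a b : Fin (n + 2) × Bool, (a.1 : ℕ) < b.1 → ee x = wt a + wt b → t ∈ StE W K j := by
        intro a b hab e
        have hne : a.1 ≠ b.1 := fun h => by rw [h] at hab; exact lt_irrefl _ hab
        rw [Cfsg.Agent.Nodes.WittRGDD.rg_eq (toFrame W) hne e] at ht'
        obtain ⟨s, hs⟩ := ht'
        intro k _
        rw [hs]
        exact X_stab hab (pos_root hx0 hab e) s
      rcases lt_trichotomy (a.1 : ℕ) (b.1 : ℕ) with h1 | h1 | h1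
      · exact key a b h1 e
      · exact absurd (Fin.ext h1) hab
      · exact key b a h1 (e.trans (add_comm _ _))
  have h1 := inf_eq_PJ R hB
  -- the group is generated
  have hGG : Cfsg.Agent.Nodes.Bruhat.GG cs (isCartan n) (((Tor (toFrame W) (E Q)).subgroupOf (E Q)).map (toPOmega hG))
      (XD W (toPOmega hG)) = ⊤ := by
    rw [eq_top_iff, ← G1D_eq_top W (toPOmega hG) (toPOmega_surjective hG) h0 cs]
    exact le_sup_right
  rw [hGG, inf_top_eq] at h1
  have h2 : {i | (fun i => toPOmega hG ⟨Cfsg.Agent.Nodes.WittRGDD.nn (toFrame W) i,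
      Cfsg.Agent.Nodes.WittRGDD.nn_mem hA i⟩) i ∈ P} = JD K j := by
    ext i
    have hi := i.2
    show toPOmega hG _ ∈ P ↔ _
    rw [hP, map_mem_iff W hG, mem_StE]
    have h3 : ∀ k, (stdF (toFrame W) j k).map ((Cfsg.Agent.Nodes.WittRGDD.nn (toFrame W) i :
        (ι → F) ≃ₗ[F] (ι → F)) : (ι → F) →ₗ[F] (ι → F)) = stdF (toFrame W) j k ↔
        ∀ w, Idx j k w → Idx j k (sg i w) := fun k => mono_stab_iff (Cfsg.Agent.Nodes.WittRGDD.mono_nn i)
    have h4 : (∀ k ∈ K, (stdF (toFrame W) j k).map ((Cfsg.Agent.Nodes.WittRGDD.nn (toFrame W) i :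
        (ι → F) ≃ₗ[F] (ι → F)) : (ι → F) →ₗ[F] (ι → F)) = stdF (toFrame W) j k) ↔
        ∀ k ∈ K, (if (i : ℕ) + 1 < n + 2 then (k ≠ i + 1 ∧ ¬ ((i : ℕ) = n ∧ j = false ∧ k = n + 2))
        else (k ≤ n ∨ (j = false ∧ k = n + 2))) := by
      refine forall₂_congr fun k hk => ?_
      rw [h3, sg_iff i j k (Finset.mem_Icc.1 (hK hk)).2]
    refine h4.trans ?_
    have hN' : 1 ≤ n + 2 ∧ n + 2 ≤ n + 2 := Finset.mem_Icc.1 (hK hN)
    cases j with
    | true =>
      show _ ↔ (i : ℕ) + 1 ∉ K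
      constructor
      · intro h5 h6
        have h7 := h5 _ h6
        split_ifs at h7 with h8
        · exact h7.1 rfl
        · rcases h7 with h7 | h7
          · omega
          · exact absurd h7.1 (by simp)
      · intro h5 k hk
        have hk' := Finset.mem_Icc.1 (hK hk)
        split_ifs with h8
        · refine ⟨fun h => h5 (h ▸ hk), fun h => absurd h.2.1 (by simp)⟩
        · exfalso
          apply h5
          have : (i : ℕ) + 1 = n + 2 := by omega
          rw [this]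
          exact hN
    | false =>
      show _ ↔ ((Equiv.swap (Fin.last (n + 1)) (Fin.castSucc (Fin.last n)) i : Fin (n + 2)) : ℕ) + 1 ∉ K
      have hsw : ((Equiv.swap (Fin.last (n + 1)) (Fin.castSucc (Fin.last n)) i : Fin (n + 2)) : ℕ) =
          if (i : ℕ) = n + 1 then n else if (i : ℕ) = n then n + 1 else i := by
        have e1 : i = Fin.last (n + 1) ↔ (i : ℕ) = n + 1 := by rw [Fin.ext_iff, Fin.val_last]
        have e2 : i = Fin.castSucc (Fin.last n) ↔ (i : ℕ) = n := by rw [Fin.ext_iff]; simp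
        by_cases h5 : (i : ℕ) = n + 1
        · rw [if_pos h5, e1.2 h5, Equiv.swap_apply_left]
          simp
        by_cases h6 : (i : ℕ) = n
        · rw [if_neg h5, if_pos h6, e2.2 h6, Equiv.swap_apply_right]
          simp
        rw [if_neg h5, if_neg h6, Equiv.swap_apply_of_ne_of_ne (fun h => h5 (e1.1 h)) (fun h => h6 (e2.1 h))]
      rw [hsw]
      constructor
      · intro h5 h6
        split_ifs at h6 with h9 h10
        · have h7 := h5 _ h6
          rw [if_neg (by omega)] at h7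
          rcases h7 with h7 | h7
          · omega
          · omega
        · have h7 := h5 _ hN
          rw [if_pos (by omega)] at h7
          exact h7.2 ⟨h10, rfl, rfl⟩
        · have h7 := h5 _ h6
          rw [if_pos (by omega)] at h7
          exact h7.1 rfl
      · intro h5 k hk
        have hk' := Finset.mem_Icc.1 (hK hk)
        split_ifs at h5 with h9 h10
        · rw [if_neg (by omega)]
          by_cases h11 : k = n + 2
          · exact Or.inr ⟨rfl, h11⟩
          · left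
            by_contra h12
            exact h5 ((by omega : k = n + 1) ▸ hk)
        · exact absurd hN h5
        · rw [if_pos (by omega)]
          exact ⟨fun h => h5 (h ▸ hk), fun h => h10 h.1⟩
  rw [h1, h2]

end Cfsg.Agent.H556.FD
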