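import Cfsg.Agent.Nodes.WittRGDD

/-!
# S4884, row `POmega⁺`: the standard flags of a hyperbolic Witt frame (helper556)

* `Idx j k` : the signed indices of the standard flag of the family `j`;
* `stdF Fr j k` : the standard subspaces, `stdF Fr j k = ⟨b (i, true) : i < k⟩`, except that the last vector
  `b (n + 1, true)` is replaced by `b (n + 1, false)` for `j = false`;
* `b_mem_iff`, `X_stab` (positive root elements), `mono_stab_iff` (monomial elements), `sg_iff`.
-/

set_option autoImplicit false
set_option linter.unusedSimpArgs false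

namespace Cfsg.Agent.H556.FD

open Cfsg.Agent.Nodes.TypeC (wt wt_apply ng ng_ng ng_fst ng_snd wt_ng)
open Cfsg.Agent.Nodes.TypeD Cfsg.Agent.Nodes.WittRoot
open Cfsg.Agent.TitsThree Cfsg.Agent.TitsThree.Siegel Cfsg.Agent.TitsThree.WittFrame

variable {n : ℕ}

/-- the sign of the index `i` in the standard flag of the family `j` -/
def sj (j : Bool) (i : Fin (n + 2)) : Bool := if (i : ℕ) = n + 1 then j else true

/-- the signed indices of the standard flag -/
def Idx (j : Bool) (k : ℕ) (w : Fin (n + 2) × Bool) : Prop := (w.1 : ℕ) < k ∧ w.2 = sj j w.1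

theorem sg_iff (i : Fin (n + 2)) (j : Bool) (k : ℕ) (hk : k ≤ n + 2) :
    (∀ w, Idx j k w → Idx j k (sg i w)) ↔
      if (i : ℕ) + 1 < n + 2 then (k ≠ i + 1 ∧ ¬ ((i : ℕ) = n ∧ j = false ∧ k = n + 2))
        else (k ≤ n ∨ (j = false ∧ k = n + 2)) := by
  have hi := i.2
  constructor
  · intro h
    split_ifs with h1
    · constructor
      · rintro rfl
        have h2 := (h (i, sj j i) ⟨by simp, rfl⟩).1
        unfold sg at h2
        rw [dif_pos h1, if_pos rfl] at h2
        simp at h2
      · rintro ⟨h3, rfl, rfl⟩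
        have h2 := (h (i, sj false i) ⟨by simp, rfl⟩).2
        unfold sg at h2
        rw [dif_pos h1, if_pos rfl] at h2
        simp [sj] at h2
        omega
    · by_contra hcon
      push Not at hcon
      obtain ⟨h3, h4⟩ := hcon
      have hi' : (i : ℕ) = n + 1 := by omega
      -- the index `n`
      have h2 := h (pd n, sj j (pd n)) ⟨by simp [pd]; omega, rfl⟩
      unfold sg at h2
      have hne : pd n ≠ i := by
        intro h5
        have := congrArg Fin.val h5
        simp [pd] at this
        omega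
      rw [dif_neg h1, if_neg hne, if_pos rfl] at h2
      have h5 : ((i : ℕ) < k) := h2.1
      have h6 : (!sj j (pd n)) = sj j i := h2.2
      have h7 : sj j (pd n) = true := by simp [sj, pd]
      have h8 : sj j i = j := by simp [sj, hi']
      rw [h7, h8] at h6
      exact h4 h6.symm (by omega)
  · intro h w hw
    obtain ⟨hw1, hw2⟩ := hw
    obtain ⟨l, s⟩ := w
    have hl := l.2
    simp only at hw1 hw2
    subst hw2
    have key : ∀ {a b : Fin (n + 2)} {s : Bool}, (a : ℕ) < k →
        (((a : ℕ) = n + 1 → s = j) ∧ ((a : ℕ) ≠ n + 1 → s = true)) → Idx j k (a, s) := by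
      intro a b s h1 h2
      refine ⟨h1, ?_⟩
      show s = sj j a
      unfold sj
      split_ifs with h3
      · exact h2.1 h3
      · exact h2.2 h3
    have hsl : ((l : ℕ) = n + 1 → sj j l = j) ∧ ((l : ℕ) ≠ n + 1 → sj j l = true) :=
      ⟨fun h3 => by simp [sj, h3], fun h3 => by simp [sj, h3]⟩
    unfold sg
    split_ifs at h ⊢ with h1 h2 h3 h4 h5
    · have h2' : (l : ℕ) = i := congrArg Fin.val h2
      refine key (b := l) (show (i : ℕ) + 1 < k by omega) ⟨fun h3 => ?_, fun h3 => ?_⟩
      · change (i : ℕ) + 1 = n + 1 at h3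
        show sj j l = j
        rw [hsl.2 (by omega)]
        rcases j with _ | _
        · exact absurd ⟨by omega, rfl, by omega⟩ h.2
        · rfl
      · exact hsl.2 (by omega)
    · have h3' : (l : ℕ) = i + 1 := congrArg Fin.val h3
      refine key (b := l) (show (i : ℕ) < k by omega) ⟨fun h4 => ?_, fun h4 => ?_⟩
      · omega
      · show sj j l = true
        by_cases h5 : (l : ℕ) = n + 1
        · rw [hsl.1 h5]
          rcases j with _ | _
          · exact absurd ⟨by omega, rfl, by omega⟩ h.2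
          · rfl
        · exact hsl.2 h5
    · exact key (b := l) hw1 hsl
    · have h4' : (l : ℕ) = i := congrArg Fin.val h4
      refine key (b := l) (show n < k by omega) ⟨fun h5 => ?_, fun h5 => ?_⟩
      · exact absurd h5 (by simp [pd])
      · show (!sj j l) = true
        rw [hsl.1 (by omega)]
        rcases h with h | ⟨h, -⟩
        · omega
        · rw [h]; rfl
    · have h5' : (l : ℕ) = n := congrArg Fin.val h5
      refine key (b := l) (show (i : ℕ) < k by omega) ⟨fun h6 => ?_, fun h6 => ?_⟩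
      · show (!sj j l) = j
        rw [hsl.2 (by omega)]
        rcases h with h | ⟨h, -⟩
        · omega
        · rw [h]; rfl
      · omega
    · exact key (b := l) hw1 hsl

section frame

variable {F : Type*} [Field F] {V : Type*} [AddCommGroup V] [Module F V] {H : HForm F V}
  (Fr : Frame H (Fin (n + 2)))

/-- the standard subspaces -/
def stdF (j : Bool) (k : ℕ) : Submodule F V := Submodule.span F {v | ∃ w, Idx j k w ∧ v = Fr.b w}

variable {Fr}

theorem b_mem {j : Bool} {k : ℕ} {w : Fin (n + 2) × Bool} (hw : Idx j k w) : Fr.b w ∈ stdF Fr j k :=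
  Submodule.subset_span ⟨w, hw, rfl⟩

/-- vectors of the standard subspace are orthogonal to the other frame vectors -/
theorem h_eq_zero {j : Bool} {k : ℕ} {w : Fin (n + 2) × Bool} (hw : ¬ Idx j k (neg w)) {v : V}
    (hv : v ∈ stdF Fr j k) : H.h v (Fr.b w) = 0 := by
  induction hv using Submodule.span_induction with
  | mem x hx =>
    obtain ⟨y, hy, rfl⟩ := hx
    apply Fr.hb_ne
    rintro rfl
    rw [neg_neg] at hw
    exact hw hy
  | zero => exact H.zero_left _
  | add x y _ _ hx hy => rw [H.add_left, hx, hy, add_zero]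
  | smul c x _ hx => rw [H.smul_left, hx, mul_zero]

theorem b_mem_iff {j : Bool} {k : ℕ} {w : Fin (n + 2) × Bool} : Fr.b w ∈ stdF Fr j k ↔ Idx j k w := by
  constructor
  · intro h
    by_contra hcon
    have h1 := h_eq_zero (w := neg w) (by rwa [neg_neg]) h
    rw [Fr.hb_self_neg] at h1
    exact Fr.η_ne _ h1
  · exact b_mem

theorem stdF_le_iff {j : Bool} {k : ℕ} {U : Submodule F V} : stdF Fr j k ≤ U ↔ ∀ w, Idx j k w → Fr.b w ∈ U := by
  rw [stdF, Submodule.span_le]
  constructor
  · exact fun h w hw => h ⟨w, hw, rfl⟩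
  · rintro h _ ⟨w, hw, rfl⟩
    exact h w hw

theorem map_le_iff {j : Bool} {k : ℕ} {g : V ≃ₗ[F] V} :
    (stdF Fr j k).map (g : V →ₗ[F] V) ≤ stdF Fr j k ↔ ∀ w, Idx j k w → g (Fr.b w) ∈ stdF Fr j k := by
  rw [Submodule.map_le_iff_le_comap, stdF_le_iff]
  rfl

theorem map_eq_of_le [FiniteDimensional F V] {U : Submodule F V} {g : V ≃ₗ[F] V} (h : U.map (g : V →ₗ[F] V) ≤ U) :
    U.map (g : V →ₗ[F] V) = U :=
  Submodule.eq_of_le_of_finrank_eq h (LinearEquiv.finrank_map_eq g U)

/-- monomial elements -/
theorem mono_stab_iff [FiniteDimensional F V] {j : Bool} {k : ℕ} {g : V ≃ₗ[F] V}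
    {π : Fin (n + 2) × Bool → Fin (n + 2) × Bool} (hg : Mono Fr g π) :
    (stdF Fr j k).map (g : V →ₗ[F] V) = stdF Fr j k ↔ ∀ w, Idx j k w → Idx j k (π w) := by
  have key : ∀ w, g (Fr.b w) ∈ stdF Fr j k ↔ Idx j k (π w) := by
    intro w
    obtain ⟨l, hl, e⟩ := hg w
    rw [e, Submodule.smul_mem_iff _ hl, b_mem_iff]
  constructor
  · intro h w hw
    rw [← key]
    exact map_le_iff.1 h.le w hw
  · intro h
    exact map_eq_of_le (map_le_iff.2 fun w hw => (key w).2 (h w hw))

/-- root elements of positive roots -/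
theorem X_stab [FiniteDimensional F V] {j : Bool} {k : ℕ} {a b : Fin (n + 2) × Bool} (hab : (a.1 : ℕ) < b.1)
    (ha : a.2 = true) (t : F) : (stdF Fr j k).map (Fr.X a b t : V →ₗ[F] V) = stdF Fr j k := by
  have hne : a.1 ≠ b.1 := fun h => by rw [h] at hab; exact lt_irrefl _ hab
  have hb2 := b.1.2
  refine map_eq_of_le (map_le_iff.2 fun w hw => ?_)
  rw [Fr.X_eq hne, HForm.sie_apply]
  have h1 : H.h (Fr.b w) (Fr.b a) = 0 := by
    apply Fr.hb_ne
    intro h2
    have h3 : w = neg a := by rw [h2, neg_neg]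
    have h4 := hw.2
    have h5 : (w.1 : ℕ) = a.1 := by rw [h3]; rfl
    have h6 : w.2 = false := by rw [h3, neg_snd, ha]; rfl
    rw [h6] at h4
    unfold sj at h4
    split_ifs at h4
    omega
  rw [h1, zero_smul, add_zero, mul_zero, zero_smul, add_zero]
  refine Submodule.sub_mem _ (b_mem hw) ?_
  by_cases h2 : w = neg b
  · refine Submodule.smul_mem _ _ (b_mem ?_)
    have h3 : (w.1 : ℕ) = b.1 := by rw [h2]; rfl
    have h4 := hw.1
    refine ⟨by omega, ?_⟩
    rw [ha]
    unfold sj
    rw [if_neg (by omega)]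
  · have h3 : H.h (Fr.b w) (Fr.sc b t • Fr.b b) = 0 := by
      rw [H.smul_right, Fr.hb_ne (fun h => h2 (by rw [h, neg_neg])), mul_zero]
    rw [h3, mul_zero, zero_smul]
    exact Submodule.zero_mem _

end frame

end Cfsg.Agent.H556.FD
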